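import Groth.Agent.Lib.CMMor6.Mor
import Groth.Agent.Lib.Excellent.FlatFibres

/-!
# The stalks of the fibres of a map of affine schemes
-/

set_option autoImplicit false
universe u

open CategoryTheory AlgebraicGeometry IsLocalRing

namespace GrothLib.SpecFibStalk1

/-- The fibre stalk of `Spec S → Spec R` is the fibre local ring. -/
theorem nonempty_fibStalk_equiv (R S : Type u) [CommRing R] [CommRing S] [Algebra R S] (q : PrimeSpectrum S) :
    Nonempty (((Spec.map (CommRingCat.ofHom (algebraMap R S))).fiber
        ((Spec.map (CommRingCat.ofHom (algebraMap R S))) q)).presheaf.stalk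
          ((Spec.map (CommRingCat.ofHom (algebraMap R S))).asFiber q) ≃+* EGA4.FibLocRing R S q.asIdeal) := by
  obtain ⟨e⟩ := GrothLib.CMMor6.nonempty_fibQuot_equiv (Spec.map (CommRingCat.ofHom (algebraMap R S))) q
  let p := PrimeSpectrum.comap (algebraMap R S) q
  let σR : _ ≃+* Localization.AtPrime p.asIdeal := (Spec.stalkIso (CommRingCat.of R) p).commRingCatIsoToRingEquiv
  let σS : _ ≃+* Localization.AtPrime q.asIdeal := (Spec.stalkIso (CommRingCat.of S) q).commRingCatIsoToRingEquiv
  have hst : ∀ z, σS ((Spec.map (CommRingCat.ofHom (algebraMap R S))).stalkMap q z) =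
      Localization.localRingHom p.asIdeal q.asIdeal (algebraMap R S) rfl (σR z) := fun z => by
    rw [← Scheme.localRingHom_comp_stalkIso]
    exact σS.apply_symm_apply _
  refine ⟨e.symm.trans (Ideal.quotientEquiv _ _ σS ?_)⟩
  have hcomp : σS.toRingHom.comp ((Spec.map (CommRingCat.ofHom (algebraMap R S))).stalkMap q).hom =
      (Localization.localRingHom p.asIdeal q.asIdeal (algebraMap R S) rfl).comp σR.toRingHom := RingHom.ext hst
  have hmax : (maximalIdeal ((Spec (CommRingCat.of R)).presheaf.stalk p)).map σR.toRingHom =
      maximalIdeal (Localization.AtPrime p.asIdeal) :=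
    IsLocalRing.map_maximalIdeal_of_surjective σR.toRingHom σR.surjective
  have hq : (Localization.localRingHom p.asIdeal q.asIdeal (algebraMap R S) rfl).comp
      (algebraMap R (Localization.AtPrime p.asIdeal)) = algebraMap R (Localization.AtPrime q.asIdeal) :=
    RingHom.ext fun x => by
      rw [RingHom.comp_apply, Localization.localRingHom_to_map, ← IsScalarTower.algebraMap_apply]
  show _ = Ideal.map σS.toRingHom (Ideal.map _ _)
  rw [Ideal.map_map, hcomp]
  refine Eq.trans ?_ ((congrArg (Ideal.map (Localization.localRingHom p.asIdeal q.asIdeal (algebraMap R S) rfl))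
    hmax).symm.trans (Ideal.map_map _ _))
  rw [← Localization.AtPrime.map_eq_maximalIdeal, Ideal.map_map, hq]
  rfl

end GrothLib.SpecFibStalk1
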